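import Cfsg.Agent.Lib.ClassSizesFour.Basic
import Cfsg.Agent.S4035
import Cfsg.Agent.S4134

/-!
Class sizes `{1, n, m, n * m}`: a `p`-element of class size `n` with `p ∣ n`.
-/

set_option autoImplicit false

namespace CfsgLib.ClassSizesFour

open Subgroup CfsgLib.ClassSizes3

variable {G : Type*} [Group G] [Finite G]

/-- An element of order dividing no prime power index lies in the normal subgroup. -/
theorem mem_of_coprime_index {X : Type*} [Group X] [Finite X] (K : Subgroup X) [K.Normal] {x : X}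
    (h : (orderOf x).Coprime K.index) : x ∈ K := by
  rw [← QuotientGroup.eq_one_iff, ← orderOf_eq_one_iff]
  have h1 : orderOf (x : X ⧸ K) ∣ orderOf x := orderOf_map_dvd (QuotientGroup.mk' K) x
  have h2 : orderOf (x : X ⧸ K) ∣ K.index := by
    rw [index_eq_card]
    exact orderOf_dvd_natCard _
  exact Nat.dvd_one.mp (h.gcd_eq_one ▸ Nat.dvd_gcd h1 h2)

/-- The index of a subgroup containing a complement of a normal subgroup. -/
theorem index_eq_relIndex_of_sup {X : Type*} [Group X] [Finite X] (K H : Subgroup X) [K.Normal]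
    (h : H ⊔ K = ⊤) : H.index = H.relIndex K := by
  have h1 : K.relIndex H = K.index := by rw [← relIndex_sup_right, h, relIndex_top_right]
  have h2 := relIndex_mul_relIndex ⊥ (H ⊓ K) H bot_le inf_le_left
  have h3 := relIndex_mul_relIndex ⊥ (H ⊓ K) K bot_le inf_le_right
  rw [relIndex_bot_left, relIndex_bot_left, inf_relIndex_left, h1] at h2
  rw [relIndex_bot_left, relIndex_bot_left, inf_relIndex_right] at h3
  have h4 := card_mul_index K
  have h5 := card_mul_index H
  have hpos : 0 < Nat.card H := Nat.card_pos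
  refine Nat.eq_of_mul_eq_mul_left hpos ?_
  rw [h5, ← h4, ← h3, ← h2]
  ring

/-- In `C(b)`, for a `p`-element `b` of class size `n` with `p ∣ n`: the `p`-elements commute with
the `p'`-elements, and there is a normal `p'`-subgroup with the same class sizes as `C(b)`. -/
theorem H4.exists_complement {n m : ℕ} (h : H4 G n m) {p : ℕ} [hp : Fact p.Prime] (hpn : p ∣ n)
    {b : G} (hb : PEl p b) (hcb : cl b = n) :
    (∀ u v : C b, PEl p (u : G) → (orderOf (v : G)).Coprime p → Commute u v) ∧
      ∃ K : Subgroup (C b), (∀ v : C b, (orderOf (v : G)).Coprime p → v ∈ K) ∧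
        ∀ v : K, (centralizer ({v} : Set K)).index = 1 ∨ (centralizer ({v} : Set K)).index = m := by
  have hrel : ∀ v : C b, (orderOf (v : G)).Coprime p →
      (C (v : G)).relIndex (C b) = 1 ∨ (C (v : G)).relIndex (C b) = m :=
    fun v hv => h.rel_of_cl_n hcb v.2 (coprime_orderOf_of_pel hb hv)
  have hpm : ¬ p ∣ m := fun hd =>
    hp.out.ne_one (Nat.dvd_one.mp (h.cop.gcd_eq_one ▸ Nat.dvd_gcd hpn hd))
  obtain ⟨P⟩ : Nonempty (Sylow p (C b)) := inferInstance
  obtain ⟨hPn, K, hKn, hKp, hinf, hsup⟩ := Cfsg.Agent.S4035.result (G := C b) (p := p) (fun v hv => by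
    rw [ncard_class_subtype]
    rw [← orderOf_coe] at hv
    rcases hrel v hv with e | e <;> rw [e]
    exacts [hp.out.not_dvd_one, hpm]) P
  have hcomm : ∀ u ∈ (P : Subgroup (C b)), ∀ v ∈ K, Commute u v := fun u hu v hv =>
    commute_of_normal_of_disjoint _ _ hPn hKn (disjoint_iff.mpr hinf) u v hu hv
  have hcard : Nat.card (P : Subgroup (C b)) * Nat.card K = Nat.card (C b) :=
    (isComplement'_of_disjoint_and_mul_eq_univ (disjoint_iff.mpr hinf) (by
      rw [← normal_mul, hsup, coe_top])).card_mul_card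
  have hKi : K.index = Nat.card (P : Subgroup (C b)) := by
    have := card_mul_index K
    rw [← hcard, mul_comm (Nat.card (P : Subgroup (C b)))] at this
    exact Nat.eq_of_mul_eq_mul_left Nat.card_pos this
  have hvK : ∀ v : C b, (orderOf (v : G)).Coprime p → v ∈ K := by
    intro v hv
    refine mem_of_coprime_index K ?_
    obtain ⟨k, hk⟩ := IsPGroup.iff_card.mp P.isPGroup'
    rw [hKi, hk, ← orderOf_coe]
    exact hv.pow_right k
  have huP : ∀ u : C b, PEl p (u : G) → u ∈ (P : Subgroup (C b)) := by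
    intro u hu
    refine mem_of_coprime_index _ ?_
    have hPi : (P : Subgroup (C b)).index = Nat.card K := by
      have := card_mul_index (P : Subgroup (C b))
      rw [← hcard] at this
      exact Nat.eq_of_mul_eq_mul_left Nat.card_pos this
    obtain ⟨k, hk⟩ := hu
    rw [hPi, ← orderOf_coe]
    exact ((hp.out.coprime_iff_not_dvd.mpr hKp).pow_left k).coprime_dvd_left (orderOf_dvd_of_pow_eq_one hk)
  refine ⟨fun u v hu hv => hcomm u (huP u hu) v (hvK v hv), K, hvK, fun v => ?_⟩
  have hPle : (P : Subgroup (C b)) ≤ centralizer ({(v : C b)} : Set (C b)) := fun u hu =>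
    mem_centralizer_singleton_iff.mpr (hcomm u hu v v.2).eq
  have hsup' : centralizer ({(v : C b)} : Set (C b)) ⊔ K = ⊤ :=
    top_le_iff.mp (hsup ▸ sup_le_sup_right hPle K)
  have e1 : (centralizer ({v} : Set K)).index = (centralizer ({(v : C b)} : Set (C b))).index :=
    (index_centralizer_subtype K v).trans (index_eq_relIndex_of_sup K _ hsup').symm
  rw [e1, index_centralizer_subtype]
  refine hrel v ?_
  have hv1 : orderOf ((v : C b) : G) ∣ Nat.card K := by
    rw [orderOf_coe, orderOf_coe]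
    exact orderOf_dvd_natCard v
  exact (hp.out.coprime_iff_not_dvd.mpr hKp).symm.coprime_dvd_left hv1

/-- The primary elements of class size `m` are `r`-elements and `m` is a power of `r`. -/
theorem H4.alpha {n m : ℕ} (h : H4 G n m) {p : ℕ} [hp : Fact p.Prime] (hpn : p ∣ n)
    {b : G} (hb : PEl p b) (hcb : cl b = n) :
    ∃ r β : ℕ, r.Prime ∧ m = r ^ β ∧ (∀ (q : ℕ) (y : G), q.Prime → PEl q y → cl y = m → q = r) ∧
      ∀ u ∈ C b, ∀ v ∈ C b, PEl p u → PEl r v → Commute u v := by
  obtain ⟨hPK, K, hvK, hK⟩ := h.exists_complement hpn hb hcb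
  have hpm : ¬ p ∣ m := fun hd =>
    hp.out.ne_one (Nat.dvd_one.mp (h.cop.gcd_eq_one ▸ Nat.dvd_gcd hpn hd))
  -- A conjugate of a primary element of class size `m` centralises no Sylow `r`-subgroup of `C(b)`.
  have key : ∀ (r : ℕ) [Fact r.Prime], r ∣ m → ∀ y' : G, cl y' = m → y' ∈ C b →
      (∀ z ∈ C b, PEl r z → Commute y' z) → False := by
    intro r _ hrm y' hy' _ hcom
    have hrn : ¬ r ∣ n := fun hd =>
      (Fact.out : r.Prime).ne_one (Nat.dvd_one.mp (h.cop.gcd_eq_one ▸ Nat.dvd_gcd hd hrm))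
    obtain ⟨D, hD⟩ := exists_sylowIn (p := r) (C b)
    refine not_dvd_cl_of_le (hD.full (by rw [show (C b).index = n from hcb]; exact hrn))
      (fun z hz => mem_C.mpr ((hcom z (hD.le hz) (PEl.of_mem hD.isPGroup hz)).eq.symm)) ?_
    rw [hy']
    exact hrm
  have hconj : ∀ (q : ℕ) (y : G), PEl q y → cl y = m →
      ∃ y' : G, PEl q y' ∧ cl y' = m ∧ y' ∈ C b := by
    intro q y hy hcy
    obtain ⟨c, hc⟩ := exists_conj_mem_C (x := y) (by rw [hcy]; exact hpm) hb
    exact ⟨_, hy.conj c, (cl_conj c y).trans hcy, hc⟩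
  have hex : ∃ v : K, (centralizer ({v} : Set K)).index = m := by
    by_contra hno
    push Not at hno
    have hcen : ∀ v w : K, Commute v w := by
      intro v w
      have h1 := (hK v).resolve_right (hno v)
      rw [index_eq_one] at h1
      exact (mem_centralizer_singleton_iff.mp (h1 ▸ mem_top w : w ∈ centralizer ({v} : Set K))).symm
    obtain ⟨q, y, hq, hy, hcy⟩ := h.exists_pel_cl_m
    obtain ⟨y', hy', hcy', hy'b⟩ := hconj q y hy hcy
    obtain ⟨r, hr, hrm⟩ := Nat.exists_prime_and_dvd h.one_lt_m.ne'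
    have : Fact r.Prime := ⟨hr⟩
    have hrp : r ≠ p := fun e => hpm (e ▸ hrm)
    refine key r hrm y' hcy' hy'b fun z hz hzr => ?_
    have hzp : (orderOf z).Coprime p := orderOf_coprime_of_pel hp.out hr hrp hzr
    by_cases hqp : q = p
    · exact congrArg Subtype.val (hPK ⟨y', hy'b⟩ ⟨z, hz⟩ (hqp ▸ hy') hzp)
    · exact congrArg (fun k : K => ((k : C b) : G))
        (hcen ⟨_, hvK ⟨y', hy'b⟩ (orderOf_coprime_of_pel hp.out hq hqp hy')⟩ ⟨_, hvK ⟨z, hz⟩ hzp⟩)
  obtain ⟨r, hr, β, hmr, hall⟩ := Cfsg.Agent.S4134.result (G := K) m h.one_lt_m hK hex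
  obtain ⟨R⟩ : Nonempty (Sylow r K) := inferInstance
  obtain ⟨hRn, ⟨N, hNn, hNR, -, hNcom⟩, -⟩ := hall R
  have hrm : r ∣ m := by
    rw [hmr]
    refine dvd_pow_self r fun e => ?_
    have := h.one_lt_m
    rw [hmr, e, pow_zero] at this
    omega
  have hrp : r ≠ p := fun e => hpm (e ▸ hrm)
  refine ⟨r, β, hr.out, hmr, fun q y hq hy hcy => ?_, fun u hu v hv hup hvr => ?_⟩
  · by_contra hqr
    obtain ⟨y', hy', hcy', hy'b⟩ := hconj q y hy hcy
    refine key r hrm y' hcy' hy'b fun z hz hzr => ?_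
    have hzp : (orderOf z).Coprime p := orderOf_coprime_of_pel hp.out hr.out hrp hzr
    by_cases hqp : q = p
    · exact congrArg Subtype.val (hPK ⟨y', hy'b⟩ ⟨z, hz⟩ (hqp ▸ hy') hzp)
    · set yK : K := ⟨_, hvK ⟨y', hy'b⟩ (orderOf_coprime_of_pel hp.out hq hqp hy')⟩
      set zK : K := ⟨_, hvK ⟨z, hz⟩ hzp⟩
      have hyN : yK ∈ N := by
        refine mem_of_coprime_index N ?_
        obtain ⟨k, hk⟩ := IsPGroup.iff_card.mp R.isPGroup'
        rw [hNR.symm.index_eq_card, hk]
        refine (Nat.Coprime.pow_right k ?_)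
        rw [show orderOf yK = orderOf y' from ((orderOf_coe (H := C b) (yK : C b)).trans (orderOf_coe yK)).symm]
        exact orderOf_coprime_of_pel hr.out hq hqr hy'
      have hzR : zK ∈ (R : Subgroup K) := by
        refine mem_of_coprime_index _ ?_
        rw [show orderOf zK = orderOf z from ((orderOf_coe (H := C b) (zK : C b)).trans (orderOf_coe zK)).symm]
        obtain ⟨k, hk⟩ := hzr
        exact ((hr.out.coprime_iff_not_dvd.mpr R.not_dvd_index).pow_left k).coprime_dvd_left
          (orderOf_dvd_of_pow_eq_one hk)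
      exact congrArg (fun k : K => ((k : C b) : G)) (hNcom yK hyN zK hzR)
  · exact congrArg Subtype.val
      (hPK ⟨u, hu⟩ ⟨v, hv⟩ hup (orderOf_coprime_of_pel hp.out hr.out hrp hvr))

end CfsgLib.ClassSizesFour
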