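import Cfsg.Agent.Lib.ClassSizes3.Sizes
import Cfsg.Agent.Lib.Subnormal.Cover
import Cfsg.Agent.Lib.Subnormal.TwoRegularClassSizes
import Cfsg.Agent.Lib.Cores.PCore
import Cfsg.Agent.Lib.Cores.Fitting
import Cfsg.Agent.Lib.Correspondences.PrincipalBlock

/-!
Class sizes `{1, n, m, n * m}` with `n, m` coprime: setting and generalities.
-/

set_option autoImplicit false

namespace CfsgLib.ClassSizesFour

open Subgroup CfsgLib.ClassSizes3

variable {G : Type*} [Group G]

/-- The hypothesis: class sizes exactly `1, n, m, n * m`. -/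
structure H4 (G : Type*) [Group G] (n m : ℕ) : Prop where
  one_lt_n : 1 < n
  one_lt_m : 1 < m
  cop : n.Coprime m
  vals : ∀ x : G, cl x = 1 ∨ cl x = n ∨ cl x = m ∨ cl x = n * m
  exN : ∃ x : G, cl x = n
  exM : ∃ x : G, cl x = m
  exL : ∃ x : G, cl x = n * m

theorem H4.symm {n m : ℕ} (h : H4 G n m) : H4 G m n where
  one_lt_n := h.one_lt_m
  one_lt_m := h.one_lt_n
  cop := h.cop.symm
  vals x := by rcases h.vals x with e | e | e | e <;> simp [e, mul_comm]
  exN := h.exM
  exM := h.exN
  exL := h.exL.imp fun x e => e.trans (mul_comm _ _)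

theorem H4.n_pos {n m : ℕ} (h : H4 G n m) : 0 < n := Nat.zero_lt_of_lt h.one_lt_n

theorem H4.m_pos {n m : ℕ} (h : H4 G n m) : 0 < m := Nat.zero_lt_of_lt h.one_lt_m

theorem H4.cases {n m : ℕ} (h : H4 G n m) {x : G} (hx : x ∉ center G) :
    cl x = n ∨ cl x = m ∨ cl x = n * m :=
  (h.vals x).resolve_left fun e => hx (cl_eq_one.mp e)

theorem H4.cl_dvd {n m : ℕ} (h : H4 G n m) (x : G) : cl x ∣ n * m := by
  rcases h.vals x with e | e | e | e <;> rw [e]
  exacts [one_dvd _, dvd_mul_right _ _, dvd_mul_left _ _]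

theorem notCenter_of_cl {x : G} {k : ℕ} (hk : 1 < k) (he : cl x = k) : x ∉ center G := fun h => by
  rw [cl_eq_one.mpr h] at he
  omega

variable [Finite G]

theorem cl_pos (x : G) : 0 < cl x := Nat.pos_of_ne_zero index_ne_zero_of_finite

omit [Finite G] in
/-- A `p`-element and an element of order prime to `p`. -/
theorem coprime_orderOf_of_pel {p : ℕ} {x y : G} (hx : PEl p x)
    (hy : (orderOf y).Coprime p) : (orderOf x).Coprime (orderOf y) := by
  obtain ⟨k, hk⟩ := hx
  exact (hy.symm.pow_left k).coprime_dvd_left (orderOf_dvd_of_pow_eq_one hk)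

omit [Finite G] in
theorem orderOf_coprime_of_pel {p q : ℕ} (hp : p.Prime) (hq : q.Prime) (hqp : q ≠ p) {x : G}
    (hx : PEl q x) : (orderOf x).Coprime p := by
  obtain ⟨k, hk⟩ := hx
  exact (((Nat.coprime_primes hq hp).mpr hqp).pow_left k).coprime_dvd_left
    (orderOf_dvd_of_pow_eq_one hk)

/-- The index of `C(y)` in `C(x)` times `|x^G|`, for commuting `x, y` of coprime order. -/
theorem relIndex_mul_cl {x y : G} (h : Commute x y) (hco : (orderOf x).Coprime (orderOf y)) :
    (C y).relIndex (C x) * cl x = cl (x * y) := by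
  show _ = (C (x * y)).index
  rw [C_mul h hco, ← inf_relIndex_right, inf_comm (C y), cl, relIndex_mul_index inf_le_left]

omit [Finite G] in
/-- In a subgroup `H`, the index of a centralizer is `|C(y) ∩ H : H|`. -/
theorem index_centralizer_subtype (H : Subgroup G) (y : H) :
    (centralizer ({y} : Set H)).index = (C (y : G)).relIndex H := by
  have : centralizer ({y} : Set H) = (C (y : G)).subgroupOf H := by
    ext g
    rw [mem_subgroupOf, mem_centralizer_singleton_iff, mem_C]
    exact ⟨fun e => congrArg Subtype.val e, fun e => Subtype.ext e⟩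
  rw [this]
  rfl

theorem ncard_class_subtype (H : Subgroup G) (y : H) :
    (ConjClasses.mk y).carrier.ncard = (C (y : G)).relIndex H := by
  rw [← index_centralizer_subtype H y, ← CfsgLib.Correspondences.natCard_carrier_eq_index,
    ← Nat.card_coe_set_eq]
  exact Nat.card_congr (Equiv.subtypeEquivRight fun z => by
    rw [ConjClasses.mem_carrier_iff_mk_eq, ConjClasses.mk_eq_mk_iff_isConj]; exact isConj_comm)

/-- For `x` of class size `n` and `y ∈ C(x)` of coprime order, `|y^{C(x)}|` is `1` or `m`. -/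
theorem H4.rel_of_cl_n {n m : ℕ} (h : H4 G n m) {x y : G} (hx : cl x = n) (hy : y ∈ C x)
    (hco : (orderOf x).Coprime (orderOf y)) :
    (C y).relIndex (C x) = 1 ∨ (C y).relIndex (C x) = m := by
  have he := relIndex_mul_cl (show Commute x y from (mem_C.mp hy).symm) hco
  rw [hx] at he
  have hn := h.n_pos
  rcases h.vals (x * y) with e | e | e | e <;> rw [e] at he
  · exact absurd (Nat.le_of_dvd one_pos ⟨_, he.symm.trans (mul_comm _ _)⟩) (by have := h.one_lt_n; omega)
  · exact Or.inl (Nat.eq_of_mul_eq_mul_right hn (he.trans (one_mul n).symm))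
  · exfalso
    have hdvd : n ∣ m := ⟨_, he.symm.trans (mul_comm _ _)⟩
    have h1 := Nat.dvd_gcd dvd_rfl hdvd
    rw [h.cop.gcd_eq_one, Nat.dvd_one] at h1
    have := h.one_lt_n
    omega
  · exact Or.inr (Nat.eq_of_mul_eq_mul_right hn (he.trans (mul_comm n m)))

/-- For `x` of class size `n * m`, elements of `C(x)` of coprime order are central in `C(x)`. -/
theorem H4.le_C_of_cl_nm {n m : ℕ} (h : H4 G n m) {x y : G} (hx : cl x = n * m) (hy : y ∈ C x)
    (hco : (orderOf x).Coprime (orderOf y)) : C x ≤ C y := by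
  have he := relIndex_mul_cl (show Commute x y from (mem_C.mp hy).symm) hco
  have hpos : 0 < cl x := cl_pos x
  have hle : cl (x * y) ≤ cl x :=
    hx ▸ Nat.le_of_dvd (Nat.mul_pos h.n_pos h.m_pos) (h.cl_dvd (x * y))
  rw [← he] at hle
  have h0 : (C y).relIndex (C x) ≠ 0 := by
    intro h0
    rw [h0, zero_mul] at he
    exact (cl_pos (x * y)).ne' he.symm
  refine relIndex_eq_one.mp ?_
  nlinarith [Nat.pos_of_ne_zero h0]

/-- A prime dividing no class size has central elements only. -/
theorem H4.central_of_not_dvd {n m : ℕ} (h : H4 G n m) {t : ℕ} [ht : Fact t.Prime]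
    (htn : ¬ t ∣ n * m) {x : G} (hx : PEl t x) : x ∈ center G := by
  obtain ⟨D, hD⟩ := exists_sylowIn (p := t) (⊤ : Subgroup G)
  have htop : centralizer (D : Set G) = ⊤ := by
    refine CfsgLib.Subnormal.eq_top_of_forall_exists_conj_mem fun z => ?_
    obtain ⟨E, hE⟩ := exists_sylowIn (p := t) (C z)
    have hEfull := hE.full fun hd => htn (hd.trans (h.cl_dvd z))
    obtain ⟨c, -, hc⟩ := hEfull.exists_conj hD.isPGroup le_top
    refine ⟨c⁻¹, mem_centralizer_iff.mpr fun a ha => ?_⟩
    have h1 : c⁻¹ * (c * a * c⁻¹) * c⁻¹⁻¹ ∈ C (c⁻¹ * z * c⁻¹⁻¹) := conj_mem_conj (hE.le (hc a ha))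
    rw [show c⁻¹ * (c * a * c⁻¹) * c⁻¹⁻¹ = a by group] at h1
    exact mem_C.mp h1
  refine hD.mem_center (fun a ha => mem_center_iff.mpr fun g => ?_) hx (mem_top x)
  have hg : g ∈ centralizer (D : Set G) := htop ▸ mem_top g
  exact (mem_centralizer_iff.mp hg a ha).symm

/-- The `p`-part of `|C(x)|` is full when `p` does not divide the class size. -/
theorem fact_C_of_not_dvd {p : ℕ} [Fact p.Prime] {x : G} (hd : ¬ p ∣ cl x) :
    (Nat.card (C x)).factorization p = (Nat.card G).factorization p := by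
  have := fact_C (p := p) x
  rw [Nat.factorization_eq_zero_of_not_dvd hd] at this
  omega

/-- If `C(x)` contains a Sylow `p`-subgroup of `G`, then `p` does not divide `|x^G|`. -/
theorem not_dvd_cl_of_le {p : ℕ} [hp : Fact p.Prime] {x : G} {D : Subgroup G} (hD : SylowIn p ⊤ D)
    (hle : D ≤ C x) : ¬ p ∣ cl x := by
  intro hd
  have h1 := card_le_of_isPGroup hD.isPGroup hle
  rw [hD.card, card_top] at h1
  have h2 := (Nat.pow_le_pow_iff_right hp.out.one_lt).mp h1
  have h3 := fact_C (p := p) x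
  have h4 : 0 < (cl x).factorization p := hp.out.factorization_pos_of_dvd (cl_pos x).ne' hd
  omega

/-- A conjugate of the `p`-element `b` lies in `C(x)` when `p` does not divide `|x^G|`. -/
theorem exists_conj_mem_C {p : ℕ} [hp : Fact p.Prime] {x b : G} (hd : ¬ p ∣ cl x) (hb : PEl p b) :
    ∃ c : G, c * x * c⁻¹ ∈ C b := by
  obtain ⟨D, hD⟩ := exists_sylowIn (p := p) (C x)
  obtain ⟨c, -, hc⟩ := (hD.full hd).conj_mem hb (mem_top b)
  refine ⟨c⁻¹, C_comm ?_⟩
  rw [mem_C_conj, inv_inv]
  exact hD.le hc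

/-- An element of prime power order of class size `m`. -/
theorem H4.exists_pel_cl_m {n m : ℕ} (h : H4 G n m) :
    ∃ (q : ℕ) (y : G), q.Prime ∧ PEl q y ∧ cl y = m := by
  obtain ⟨x, hx⟩ := h.exM
  obtain ⟨q, y, hq, hy, hle, hyc⟩ := exists_pel_noncentral (notCenter_of_cl h.one_lt_m hx)
  refine ⟨q, y, hq, hy, ?_⟩
  have hd : cl y ∣ m := hx ▸ cl_dvd_of_le hle
  rcases h.cases hyc with e | e | e <;> rw [e] at hd
  · have h1 := Nat.dvd_gcd dvd_rfl hd
    rw [h.cop.gcd_eq_one, Nat.dvd_one] at h1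
    have := h.one_lt_n
    omega
  · exact e
  · exfalso
    have h1 := Nat.le_of_dvd h.m_pos hd
    have := h.one_lt_n
    have := h.m_pos
    nlinarith

/-- An element of `p`-power order of a normal nilpotent subgroup lies in the `p`-core. -/
theorem mem_pCore_of_isNilpotent {p : ℕ} [Fact p.Prime] {N : Subgroup G} [N.Normal]
    (hN : Group.IsNilpotent N) {x : G} (hx : PEl p x) (hxN : x ∈ N) : x ∈ Cfsg.pCore p G := by
  obtain ⟨D, hD⟩ := exists_sylowIn (p := p) N
  obtain ⟨P, -⟩ : ∃ P : Sylow p N, True := ⟨default, trivial⟩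
  have hPn : (P : Subgroup N).Normal :=
    ((Group.isNilpotent_of_finite_tfae (G := N)).out 0 3 rfl rfl).mp hN p inferInstance P
  have : (P : Subgroup N).Characteristic := Sylow.characteristic_of_normal P hPn
  have : ((P : Subgroup N).map N.subtype).Normal := inferInstance
  have hxP : (⟨x, hxN⟩ : N) ∈ (P : Subgroup N) := by
    have hz : IsPGroup p (zpowers (⟨x, hxN⟩ : N)) := by
      refine PEl.isPGroup ?_
      obtain ⟨k, hk⟩ := hx
      exact ⟨k, Subtype.ext (by simpa using hk)⟩
    obtain ⟨Q, hQ⟩ := hz.exists_le_sylow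
    obtain ⟨g, rfl⟩ := MulAction.exists_smul_eq N P Q
    have := hQ (mem_zpowers _)
    rwa [Sylow.smul_eq_of_normal] at this
  exact CfsgLib.Cores.le_pCore (P.isPGroup'.map N.subtype) ⟨_, hxP, rfl⟩

end CfsgLib.ClassSizesFour
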